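import Cfsg.Agent.SThreeReal.Inner
import Cfsg.Agent.Goldschmidt.Final
import Cfsg.Agent.Ree.Field.Final
import Cfsg.Agent.Goldschmidt.Consequences.SFour
import Cfsg.Agent.GoldschmidtSFour.Families
import Cfsg.Agent.SubdegThree.Psl
import Cfsg.Agent.Components.GenFitting
import Cfsg.Agent.Components.Local
import Cfsg.Agent.Components.Supplement
import Cfsg.Agent.CpQuot.Exceptions

/-!
Groups without a section `S₃`, generated by their 2-elements, with trivial `3'`-core: they are direct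
products of groups `PSL₂(3^(2n+1))`.
-/

set_option autoImplicit false
set_option linter.style.haveILetI false
set_option linter.unusedSectionVars false

namespace Cfsg.Lib.SThreeReal

open Subgroup Cfsg.Lib.Components

universe u

variable {X : Type u} [Group X] [Finite X]

/-- A 2-element has a property closed under square roots as soon as `1` has it. -/
theorem two_induction {P : X → Prop} (h1 : P 1) (hsq : ∀ t : X, P (t * t) → P t) {s : X}
    (hs : ∃ k : ℕ, orderOf s = 2 ^ k) : P s := by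
  obtain ⟨k, hk⟩ := hs
  have key : ∀ i j : ℕ, j + i = k → P (s ^ 2 ^ j) := by
    intro i
    induction i with
    | zero => intro j hj; rwa [show j = k by omega, ← hk, pow_orderOf_eq_one]
    | succ i ih =>
      intro j hj
      refine hsq _ ?_
      rw [← pow_two, ← pow_mul, ← pow_succ]
      exact ih (j + 1) (by omega)
  simpa using key k 0 (zero_add k)

theorem no_inverted (hfree : ¬ Cfsg.Involves (Equiv.Perm (Fin 3)) X) {x y : X}
    (hy : ∃ k : ℕ, orderOf y = 3 ^ k) (h : x * y * x⁻¹ = y⁻¹) : y = 1 := by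
  obtain ⟨k, hk⟩ := hy
  rcases k with _ | k
  · exact orderOf_eq_one_iff.1 (by simpa using hk)
  · refine absurd (Cfsg.Lib.GoldschmidtSFour.involves_of_real (x := x) (y := y ^ 3 ^ k) ?_
      (by rw [← conj_pow, h, inv_pow])) hfree
    rw [orderOf_pow_of_dvd (pow_ne_zero _ (by norm_num)) (hk ▸ pow_dvd_pow 3 k.le_succ), hk, pow_succ,
      Nat.mul_div_cancel_left _ (pow_pos (by norm_num) k)]

/-- Normal 3-subgroups are central. -/
theorem three_central (hfree : ¬ Cfsg.Involves (Equiv.Perm (Fin 3)) X)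
    (hgen : closure {g : X | ∃ k : ℕ, orderOf g = 2 ^ k} = ⊤) {R : Subgroup X} [R.Normal] (hR : IsPGroup 3 R) :
    R ≤ center X := by
  haveI : Fact (Nat.Prime 3) := ⟨Nat.prime_three⟩
  have hall : (⊤ : Subgroup X) ≤ centralizer (R : Set X) := by
    rw [← hgen, closure_le]
    intro s hs
    refine two_induction (P := fun t => t ∈ centralizer (R : Set X)) (one_mem _) (fun t ht => ?_) hs
    refine mem_centralizer_iff.2 fun y hy => ?_
    have hy2 : t * t * y * (t * t)⁻¹ = y := by rw [← mem_centralizer_iff.1 ht y hy, mul_inv_cancel_right]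
    set w := y⁻¹ * (t * y * t⁻¹) with hw
    have hwR : w ∈ R := mul_mem (inv_mem hy) ((inferInstance : R.Normal).conj_mem y hy t)
    have hwi : t * w * t⁻¹ = w⁻¹ := by
      calc t * w * t⁻¹ = (t * y * t⁻¹)⁻¹ * (t * t * y * (t * t)⁻¹) := by rw [hw]; group
        _ = w⁻¹ := by rw [hy2, hw]; group
    obtain ⟨k, hk⟩ := IsPGroup.iff_orderOf.1 hR ⟨w, hwR⟩
    have h1 : y⁻¹ * (t * y * t⁻¹) = 1 := no_inverted hfree ⟨k, by rw [← hk, orderOf_mk]⟩ hwi
    rw [inv_mul_eq_one] at h1
    exact eq_mul_inv_iff_mul_eq.1 h1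
  intro r hr
  exact mem_center_iff.2 fun g => (mem_centralizer_iff.1 (hall (mem_top g)) r hr).symm

theorem suzuki_coprime {F : Type} [Field F] [Fintype F] {m : ℕ} (Q : Cfsg.Lib.Suz.Par F m) :
    ¬ 3 ∣ Nat.card (Cfsg.Sz F m) := by
  rw [Cfsg.Lib.Suz.card_Sz Q]
  have h2 : (2 ^ (2 * m + 1)) % 3 = 2 := by
    rw [pow_succ, pow_mul, Nat.mul_mod, Nat.pow_mod]
    norm_num
  obtain ⟨j, hj⟩ : ∃ j, 2 ^ (2 * m + 1) = 3 * j + 2 := ⟨2 ^ (2 * m + 1) / 3, by omega⟩
  intro h3
  rw [hj, show 3 * j + 2 - 1 = 3 * j + 1 by omega,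
    show (3 * j + 2) ^ 2 * ((3 * j + 2) ^ 2 + 1) * (3 * j + 1) =
      3 * (81 * j ^ 5 + 243 * j ^ 4 + 297 * j ^ 3 + 183 * j ^ 2 + 56 * j + 6) + 2 by ring] at h3
  omega

/-- The components. -/
theorem comp_psl (hfree : ¬ Cfsg.Involves (Equiv.Perm (Fin 3)) X) (hcore : Cfsg.pPrimeCore 3 X = ⊥)
    {L : Subgroup X} (hL : Cfsg.IsComponent L) :
    center ↥L = ⊥ ∧ ∃ n : ℕ, 1 ≤ n ∧
      Nonempty (↥L ≃* Matrix.ProjectiveSpecialLinearGroup (Fin 2) (GaloisField 3 (2 * n + 1))) := by
  classical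
  haveI : Fact (Nat.Prime 3) := ⟨Nat.prime_three⟩
  haveI : IsSimpleGroup (↥L ⧸ center ↥L) := hL.2.2
  have hna := Cfsg.Lib.CpQuot.not_commutative hL.2
  have hSfree : ¬ Cfsg.Involves (Equiv.Perm (Fin 3)) (↥L ⧸ center ↥L) := fun h => hfree
    (Cfsg.Lib.QdFree.involves_of_injective L.subtype_injective
      (Cfsg.Lib.QuadPair.involves_of_surjective (QuotientGroup.mk'_surjective _) h))
  have hZ : IsPGroup 3 (center ↥L) := by
    have hsn : ((center ↥L).map L.subtype).IsSubnormal :=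
      isSubnormal_map_subtype hL.1 (Subgroup.Normal.isSubnormal (inferInstance : (center ↥L).Normal))
    have hnil : Group.IsNilpotent ↥(center ↥L) :=
      Cfsg.Lib.Components.class_two_nilpotent (M := center ↥L) (by
        rw [show (⁅center ↥L, center ↥L⁆ : Subgroup ↥L) = ⊥ from
          commutator_eq_bot_iff_le_centralizer.2 fun z _ => mem_centralizer_iff.2 fun w hw =>
            (mem_center_iff.1 (show w ∈ center ↥L from hw) z).symm]
        exact commutator_bot_left _)
    have hle := le_fitting_of_subnormal hsn (isNilpotent_map hnil L.subtype)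
    rw [Cfsg.Lib.Components.fitting_eq_pCore hcore] at hle
    exact ((Cfsg.Lib.Components.isPGroup_pCore 3).to_le hle).of_equiv
      ((center ↥L).equivMapOfInjective L.subtype L.subtype_injective).symm
  have hgold := (Cfsg.Lib.Goldschmidt.sfour_free_iff Cfsg.Lib.Goldschmidt.goldProp
    Cfsg.Lib.Ree.Field.noFieldProp hna).1 fun h => hSfree (Cfsg.Lib.GoldschmidtSFour.three_of_four h)
  rcases (Cfsg.Agent.S2755.result hgold).2.1 hSfree with
    ⟨F, iF, iF', m, hm, hF, ⟨f⟩⟩ | ⟨F, iF, iF', n, hF, ⟨f⟩⟩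
  · exfalso
    have hS3 : ¬ 3 ∣ (center ↥L).index := by
      rw [Subgroup.index, Nat.card_congr (f.trans (Cfsg.Lib.Suz.lieEquiv (⟨hm, hF⟩ : Cfsg.Lib.Suz.Par F m)).symm).toEquiv]
      exact suzuki_coprime ⟨hm, hF⟩
    obtain ⟨a, ha⟩ := IsPGroup.iff_card.1 hZ
    obtain ⟨H, hH⟩ := exists_right_complement'_of_coprime (N := center ↥L) (by
      rw [ha]; exact ((Nat.prime_three.coprime_iff_not_dvd).2 hS3).pow_left a)
    have hHt : H = ⊤ := eq_top_of_sup_center_eq_top (qs_commutator_top hL.2)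
      (by rw [sup_comm]; exact hH.sup_eq_top)
    have hc := hH.card_mul_card
    rw [hHt, Subgroup.card_top] at hc
    have hc1 : Nat.card (center ↥L) = 1 :=
      Nat.eq_of_mul_eq_mul_right Nat.card_pos (hc.trans (one_mul _).symm)
    have h3L : ¬ 3 ∣ Nat.card L := by
      rw [← (center ↥L).card_mul_index, hc1, one_mul]; exact hS3
    have hle := le_pPrimeCore_of_subnormal (p := 3) hL.1 ((Nat.prime_three.coprime_iff_not_dvd).2 h3L).symm
    rw [hcore, le_bot_iff] at hle
    exact comp_ne_bot hL hle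
  · haveI : Fintype (GaloisField 3 (2 * n + 1)) := Fintype.ofFinite _
    have hn : 1 ≤ n := by
      by_contra hn
      rw [not_le, Nat.lt_one_iff] at hn
      subst hn
      have hc := Cfsg.Lib.Classical.SmallPSL.card_psl (F := F) (q := 3) (by rw [hF]; norm_num)
      rw [← Nat.card_congr f.toEquiv] at hc
      have h60 := Cfsg.Lib.SolvStruct.AltEight.sixty_le (G := ↥L ⧸ center ↥L)
        fun h => hna ⟨⟨fun a b => IsSimpleGroup.comm_iff_isSolvable.2 h a b⟩⟩
      norm_num at hc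
      omega
    have hq : 3 ^ 3 ≤ 3 ^ (2 * n + 1) := Nat.pow_le_pow_right (by norm_num) (by omega)
    have hM := Cfsg.Agent.S2086.result hF 2 le_rfl (fun _ => by omega)
      (by simp only [Set.mem_insert_iff, Set.mem_singleton_iff, Prod.mk.injEq, not_or, not_and]; omega)
    have hbot : center ↥L = ⊥ := Cfsg.Lib.CpQuot.eq_bot_of_trivial_multiplier hL.2 Nat.prime_three hZ
      (qs_center_ne_top hL.2) f hM (by
        rw [Cfsg.Lib.CpQuot.card_multiplicative_zmod]
        intro h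
        have := (Nat.le_of_dvd two_pos (h.trans (Nat.gcd_dvd_left 2 _)))
        omega)
    obtain ⟨e⟩ := Cfsg.Lib.CpQuot.quot_bot_equiv hbot
    refine ⟨hbot, n, hn, ⟨(e.symm.trans f).trans
      (Cfsg.Lib.SubdegThree.pslCongrField (FiniteField.ringEquivOfCardEq (K' := GaloisField 3 (2 * n + 1)) ?_))⟩⟩
    rw [hF, ← Nat.card_eq_fintype_card, GaloisField.card 3 (2 * n + 1) (by omega)]

/-- The components are normalised by the 2-elements, which induce inner automorphisms. -/
theorem two_inner (hfree : ¬ Cfsg.Involves (Equiv.Perm (Fin 3)) X) (hcore : Cfsg.pPrimeCore 3 X = ⊥)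
    {s : X} (hs : ∃ k : ℕ, orderOf s = 2 ^ k) {L : Subgroup X} (hL : Cfsg.IsComponent L) :
    ∃ l ∈ L, l⁻¹ * s ∈ centralizer (L : Set X) := by
  classical
  haveI : Fact (Nat.Prime 3) := ⟨Nat.prime_three⟩
  refine two_induction (P := fun t => ∀ L : Subgroup X, Cfsg.IsComponent L → ∃ l ∈ L, l⁻¹ * t ∈ centralizer (L : Set X))
    (fun L _ => ⟨1, one_mem _, by rw [inv_one, one_mul]; exact one_mem _⟩) (fun t ht L hL => ?_) hs L hL
  obtain ⟨hZ, n, hn, ⟨e⟩⟩ := comp_psl hfree hcore hL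
  haveI : Fintype (GaloisField 3 (2 * n + 1)) := Fintype.ofFinite _
  have hF : Fintype.card (GaloisField 3 (2 * n + 1)) = 3 ^ (2 * n + 1) := by
    rw [← Nat.card_eq_fintype_card, GaloisField.card 3 (2 * n + 1) (by omega)]
  obtain ⟨u, huL, hu⟩ := ht L hL
  have hcent : ∀ x ∈ L, u⁻¹ * (t * t) * x = x * (u⁻¹ * (t * t)) :=
    fun x hx => (mem_centralizer_iff.1 hu x hx).symm
  have hnorm : t ∈ normalizer (L : Set X) := by
    by_contra hnn
    have hne : L.map (MulAut.conj t).toMonoidHom ≠ L := fun e' => hnn (mem_normalizer_iff_map_conj_eq.2 e')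
    have hc := commutator_eq_bot_iff_le_centralizer.1 (comp_commute hL (comp_conj hL t) hne.symm)
    have h3L : 3 ∣ Nat.card L := by
      have hc' := Cfsg.Lib.Classical.SmallPSL.card_psl (F := GaloisField 3 (2 * n + 1)) hF
      rw [← Nat.card_congr e.toEquiv] at hc'
      refine (Nat.prime_three.dvd_mul.1 (hc'.symm ▸ ((dvd_pow_self 3 (by omega)).mul_right _))).resolve_left ?_
      intro h
      have := Nat.le_of_dvd two_pos (h.trans (Nat.gcd_dvd_left 2 _))
      omega
    obtain ⟨y, hy⟩ := exists_prime_orderOf_dvd_card' 3 h3L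
    have hz : t * (y : X) * t⁻¹ ∈ L.map (MulAut.conj t).toMonoidHom := ⟨y, y.2, rfl⟩
    set z := t * (y : X) * t⁻¹ with hzd
    have hyz : (y : X) * z = z * y := (mem_centralizer_iff.1 (hc y.2) z hz).symm
    have hty : (u⁻¹ * t) * y * (u⁻¹ * t)⁻¹ = z := by
      calc (u⁻¹ * t) * y * (u⁻¹ * t)⁻¹ = u⁻¹ * (z * u) := by rw [hzd]; group
        _ = u⁻¹ * (u * z) := by rw [(mem_centralizer_iff.1 (hc huL) z hz)]
        _ = z := by group
    have htz : (u⁻¹ * t) * z * (u⁻¹ * t)⁻¹ = y := by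
      calc (u⁻¹ * t) * z * (u⁻¹ * t)⁻¹ = (u⁻¹ * (t * t) * y) * ((t * t)⁻¹ * u) := by rw [hzd]; group
        _ = y := by rw [hcent y y.2]; group
    have hwi : (u⁻¹ * t) * ((y : X) * z⁻¹) * (u⁻¹ * t)⁻¹ = ((y : X) * z⁻¹)⁻¹ := by
      calc (u⁻¹ * t) * ((y : X) * z⁻¹) * (u⁻¹ * t)⁻¹
          = ((u⁻¹ * t) * y * (u⁻¹ * t)⁻¹) * ((u⁻¹ * t) * z * (u⁻¹ * t)⁻¹)⁻¹ := by group
        _ = _ := by rw [hty, htz, mul_inv_rev, inv_inv]
    have hy3 : (y : X) ^ 3 = 1 := by rw [← hy, ← orderOf_coe, pow_orderOf_eq_one]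
    have hw3 : ((y : X) * z⁻¹) ^ 3 = 1 := by
      rw [((show Commute (y : X) z from hyz).inv_right).mul_pow, hy3, one_mul, inv_pow, hzd, conj_pow, hy3,
        mul_one, mul_inv_cancel, inv_one]
    obtain ⟨j, hj⟩ : ∃ j : ℕ, orderOf ((y : X) * z⁻¹) = 3 ^ j := by
      rcases (Nat.dvd_prime Nat.prime_three).1 (orderOf_dvd_of_pow_eq_one hw3) with h | h
      · exact ⟨0, by rw [pow_zero, h]⟩
      · exact ⟨1, by rw [pow_one, h]⟩
    have h1 := no_inverted hfree ⟨j, hj⟩ hwi
    rw [mul_inv_eq_one] at h1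
    have hyc : y ∈ center ↥L := mem_center_iff.2 fun g => Subtype.ext (by
      have := mem_centralizer_iff.1 (hc g.2) z hz
      show (g : X) * y = y * g
      rw [h1]; exact this.symm)
    rw [hZ, mem_bot] at hyc
    rw [hyc, orderOf_one] at hy
    omega
  let ρ := L.normalizerMonoidHom
  have hρ : ∀ {g : X} (hg : g ∈ normalizer (L : Set X)) (x : ↥L), ((ρ ⟨g, hg⟩ x : ↥L) : X) = g * x * g⁻¹ :=
    fun _ _ => rfl
  have hsq : ρ ⟨t, hnorm⟩ * ρ ⟨t, hnorm⟩ ∈ Cfsg.Inn ↥L := by
    refine ⟨⟨u, huL⟩, MulEquiv.ext fun x => Subtype.ext ?_⟩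
    rw [← map_mul]
    show u * (x : X) * u⁻¹ = t * t * x * (t * t)⁻¹
    calc u * (x : X) * u⁻¹ = u * ((x : X) * (u⁻¹ * (t * t))) * (t * t)⁻¹ := by group
      _ = _ := by rw [← hcent x x.2]; group
  rcases inner_or_three_of_sq hF (by rw [hF]; exact lt_of_lt_of_le (by norm_num) (Nat.pow_le_pow_right (by norm_num) (show 3 ≤ 2 * n + 1 by omega))) e
      (ρ ⟨t, hnorm⟩) hsq with hin | h3
  · obtain ⟨l, hl⟩ := hin
    refine ⟨l, l.2, mem_centralizer_iff.2 fun x hx => ?_⟩
    have h := congrArg Subtype.val (DFunLike.congr_fun hl ⟨x, hx⟩)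
    simp only [MulAut.conj_apply, Subgroup.coe_mul, Subgroup.coe_inv] at h
    rw [hρ] at h
    calc x * ((l : X)⁻¹ * t) = (l : X)⁻¹ * ((l : X) * x * (l : X)⁻¹) * t := by group
      _ = (l : X)⁻¹ * (t * x * t⁻¹) * t := by rw [h]
      _ = _ := by group
  · exfalso
    let ρ' := ρ.comp (ρ.range.comap ρ).subtype
    have hle : Cfsg.Inn ↥L ⊔ zpowers (ρ ⟨t, hnorm⟩) ≤ ρ.range := by
      refine sup_le ?_ (zpowers_le.2 ⟨_, rfl⟩)
      rintro _ ⟨l, rfl⟩
      exact ⟨⟨l, le_normalizer l.2⟩, MulEquiv.ext fun x => Subtype.ext rfl⟩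
    exact hfree (Cfsg.Lib.QdFree.involves_of_injective (normalizer (L : Set X)).subtype_injective
      (Cfsg.Lib.QuadPair.involves_of_surjective ρ.rangeRestrict_surjective
        (Cfsg.Lib.QdFree.involves_of_injective (inclusion_injective hle) h3)))

/-- The structure. -/
theorem structure_psl (hfree : ¬ Cfsg.Involves (Equiv.Perm (Fin 3)) X)
    (hgen : closure {g : X | ∃ k : ℕ, orderOf g = 2 ^ k} = ⊤) (hcore : Cfsg.pPrimeCore 3 X = ⊥) :
    ∃ (k : ℕ) (f : Fin k → ℕ), (∀ i, 1 ≤ f i) ∧ Nonempty (X ≃*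
      ((i : Fin k) → Matrix.ProjectiveSpecialLinearGroup (Fin 2) (GaloisField 3 (2 * f i + 1)))) := by
  classical
  haveI : Fact (Nat.Prime 3) := ⟨Nat.prime_three⟩
  obtain ⟨k, ⟨en⟩⟩ := Finite.exists_equiv_fin {L : Subgroup X // Cfsg.IsComponent L}
  let M : Fin k → Subgroup X := fun i => (en.symm i : Subgroup X)
  have hM : ∀ i, Cfsg.IsComponent (M i) := fun i => (en.symm i).2
  choose hZ f hf he using fun i => comp_psl hfree hcore (hM i)
  have hcomm : Pairwise fun i j => ∀ x y : X, x ∈ M i → y ∈ M j → Commute x y := fun i j hij x y hx hy =>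
    (mem_centralizer_iff.1 (commutator_eq_bot_iff_le_centralizer.1 (comp_commute (hM i) (hM j)
      (fun e' => hij (en.symm.injective (Subtype.ext e')))) hx) y hy).symm
  set φ := noncommPiCoprod hcomm with hφ
  have hconj : ∀ (a : ∀ i, M i) (i : Fin k) (x : M i),
      φ a * x * (φ a)⁻¹ = (a i : X) * x * (a i : X)⁻¹ := by
    intro a i x
    have hs : a * Pi.mulSingle i x * a⁻¹ = Pi.mulSingle i (a i * x * (a i)⁻¹) := by
      funext j
      rcases eq_or_ne j i with rfl | hj
      · simp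
      · simp [hj]
    have h := congrArg φ hs
    rw [map_mul, map_mul, map_inv, hφ, noncommPiCoprod_mulSingle, noncommPiCoprod_mulSingle, ← hφ] at h
    exact h
  have hφi : Function.Injective φ := by
    refine (injective_iff_map_eq_one φ).2 fun a ha => funext fun i => ?_
    have : a i ∈ center ↥(M i) := mem_center_iff.2 fun x => Subtype.ext (by
      have := hconj a i x
      rw [ha, one_mul, inv_one, mul_one] at this
      exact eq_mul_inv_iff_mul_eq.1 this)
    rwa [hZ i, mem_bot] at this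
  have hφr : φ.range = layer X := by
    rw [hφ, noncommPiCoprod_range]
    exact le_antisymm (iSup_le fun i => comp_le_layer (hM i))
      (sSup_le fun L hL => le_iSup_of_le (en ⟨L, hL⟩) (by simp [M]))
  haveI : (layer X).Normal := inferInstance
  have hR : (Cfsg.pCore 3 X) ≤ center X := three_central hfree hgen (Cfsg.Lib.Components.isPGroup_pCore 3)
  have htop : layer X = ⊤ := by
    rw [eq_top_iff, ← hgen, closure_le]
    intro s hs
    choose a ha hac using fun i => two_inner hfree hcore hs (hM i)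
    set g : X := φ fun i => ⟨a i, ha i⟩ with hg
    have hgs : g⁻¹ * s ∈ centralizer (layer X : Set X) := by
      have hle : ∀ i, M i ≤ centralizer ({g⁻¹ * s} : Set X) := fun i x hx => by
        refine mem_centralizer_singleton_iff.2 ?_
        have h1 := hconj (fun i => ⟨a i, ha i⟩) i ⟨x, hx⟩
        simp only [← hg] at h1
        have h2 := mem_centralizer_iff.1 (hac i) x hx
        have h3 : s * x * s⁻¹ = g * x * g⁻¹ := by
          rw [h1]
          calc s * x * s⁻¹ = a i * ((a i)⁻¹ * s * x) * s⁻¹ := by group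
            _ = a i * (x * ((a i)⁻¹ * s)) * s⁻¹ := by rw [h2]
            _ = _ := by group
        calc x * (g⁻¹ * s) = g⁻¹ * (g * x * g⁻¹) * s := by group
          _ = g⁻¹ * (s * x * s⁻¹) * s := by rw [h3]
          _ = _ := by group
      refine mem_centralizer_iff.2 fun x hx => ?_
      have : layer X ≤ centralizer ({g⁻¹ * s} : Set X) := by
        rw [← hφr, hφ, noncommPiCoprod_range]; exact iSup_le hle
      exact mem_centralizer_singleton_iff.1 (this hx)
    have hFs : centralizer (layer X : Set X) ≤ layer X ⊔ Cfsg.pCore 3 X := by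
      rw [← Cfsg.Lib.Components.fitting_eq_pCore (p := 3) hcore]
      refine le_trans ?_ centralizer_genFitting_le
      intro c hc
      refine mem_centralizer_iff.2 fun x hx => ?_
      have : generalizedFittingSubgroup X ≤ centralizer ({c} : Set X) := by
        refine sup_le (fun y hy => mem_centralizer_singleton_iff.2 (mem_centralizer_iff.1 hc y hy)) ?_
        rw [Cfsg.Lib.Components.fitting_eq_pCore (p := 3) hcore]
        exact fun y hy => mem_centralizer_singleton_iff.2 ((mem_center_iff.1 (hR hy) c).symm)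
      exact mem_centralizer_singleton_iff.1 (this hx)
    have hsl : s ∈ layer X ⊔ Cfsg.pCore 3 X := by
      have hgl : g ∈ layer X ⊔ Cfsg.pCore 3 X := mem_sup_left (hφr ▸ ⟨_, rfl⟩)
      have := mul_mem hgl (hFs hgs)
      rwa [mul_inv_cancel_left] at this
    obtain ⟨e, heE, r, hr, her⟩ := mem_sup_of_normal_left.1 hsl
    obtain ⟨i, hi⟩ := hs
    obtain ⟨j, hj⟩ := IsPGroup.iff_orderOf.1 (Cfsg.Lib.Components.isPGroup_pCore (G := X) 3) ⟨r, hr⟩
    rw [orderOf_mk] at hj
    set q := QuotientGroup.mk' (layer X)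
    have hsr : q s = q r := by
      rw [← her, map_mul, show q e = 1 from (QuotientGroup.eq_one_iff e).2 heE, one_mul]
    have h2 : orderOf (q s) ∣ 2 ^ i := hi ▸ orderOf_map_dvd q s
    have h3 : orderOf (q s) ∣ 3 ^ j := hsr ▸ hj ▸ orderOf_map_dvd q r
    have h1 : q s = 1 := orderOf_eq_one_iff.1
      (Nat.eq_one_of_dvd_coprimes (Nat.Coprime.pow i j (by norm_num)) h2 h3)
    exact (QuotientGroup.eq_one_iff s).1 h1
  refine ⟨k, f, hf, ⟨((MulEquiv.ofBijective φ ⟨hφi, ?_⟩).symm).trans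
    (MulEquiv.piCongrRight fun i => (he i).some)⟩⟩
  rw [← MonoidHom.range_eq_top, hφr, htop]

end Cfsg.Lib.SThreeReal
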