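import Cfsg.Agent.SThreeFree.Families
import Cfsg.Agent.Classical.Misc.PSLOver

/-!
An automorphism of `PSL₂(3^(2n+1))` whose square is inner is itself inner, or a section `S₃` appears.
-/

set_option autoImplicit false
set_option linter.style.haveILetI false
set_option linter.unusedSectionVars false

namespace Cfsg.Lib.SThreeReal

open Subgroup Cfsg.Lib.SThreeFree

universe u

variable {X : Type u} [Group X] [Finite X]

/-- An automorphism of `PSL₂(3^(2n+1))` with inner square is inner, or `S₃` is involved. -/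
theorem inner_or_three_of_sq {F : Type} [Field F] [Fintype F] {n : ℕ} (hc : Fintype.card F = 3 ^ (2 * n + 1))
    (hq : 4 < Fintype.card F) (e : X ≃* Matrix.ProjectiveSpecialLinearGroup (Fin 2) F) (f : MulAut X)
    (hf : f * f ∈ Cfsg.Inn X) :
    f ∈ Cfsg.Inn X ∨ Cfsg.Involves (Equiv.Perm (Fin 3)) ↥(Cfsg.Inn X ⊔ zpowers f) := by
  classical
  haveI : Fact (Nat.Prime 2) := ⟨Nat.prime_two⟩
  by_cases hin : f ∈ Cfsg.Inn X
  · exact Or.inl hin
  right
  have hs : ¬ Group.IsSolvable X := fun h => Cfsg.Lib.Classical.PSLOver.not_solvable_psl (K := F) hq.le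
    (haveI := h; Group.isSolvable_of_isSolvable_injective (f := e.symm.toMonoidHom) e.symm.injective)
  haveI : Fact (Nat.Prime 3) := ⟨Nat.prime_three⟩
  haveI : CharP F 3 := charP_of_card_eq_prime_pow hc
  set P := Matrix.ProjectiveSpecialLinearGroup (Fin 2) F
  haveI : IsSimpleGroup P := Cfsg.Lib.Classical.isSimpleGroup_PSL_fin le_rfl
    fun _ => by rw [Nat.card_eq_fintype_card]; omega
  have hqp : 4 ≤ 3 ^ (2 * n + 1) := hc ▸ hq.le
  have hM := Cfsg.Agent.S0813.result 3 (2 * n + 1) (by omega) hc 2 le_rfl fun _ => hqp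
  rw [if_pos rfl, one_mul, Cfsg.Lib.Classical.PSLBounds.card_pgl_two,
    ← Cfsg.Lib.Classical.SmallPSL.card_psl (F := F) rfl,
    Nat.gcd_eq_left (show 2 ∣ Fintype.card F - 1 by obtain ⟨-, -, h8⟩ := field_facts hc; omega)] at hM
  have hcX : Nat.card X = Nat.card P := Nat.card_congr e.toEquiv
  have hMX : Nat.card (MulAut X) = (2 * n + 1) * (2 * Nat.card X) := by
    rw [Nat.card_congr (MulAut.congr e).toEquiv, hM, hcX]
  have hcen : Subgroup.center X = ⊥ := by
    haveI : IsSimpleGroup X := MulEquiv.isSimpleGroup e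
    rcases (inferInstance : (Subgroup.center X).Normal).eq_bot_or_eq_top with h | h
    · exact h
    · exact absurd (Group.isSolvable_of_comm fun a b => (Subgroup.mem_center_iff.1 (h ▸ mem_top b) a)) hs
  have hI : Nat.card (Cfsg.Inn X) = Nat.card X := by
    refine (Nat.card_congr (MonoidHom.ofInjective ?_).toEquiv).symm
    rw [injective_iff_map_eq_one]
    intro g hg
    rw [← Subgroup.mem_bot, ← hcen, Subgroup.mem_center_iff]
    intro y
    have := DFunLike.congr_fun hg y
    simp at this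
    exact (mul_inv_eq_iff_eq_mul.1 this).symm
  have hout : Nat.card (Cfsg.Out X) = (2 * n + 1) * 2 := by
    have := Subgroup.card_eq_card_quotient_mul_card_subgroup (Cfsg.Inn X)
    rw [hMX, hI, ← mul_assoc] at this
    exact (Nat.eq_of_mul_eq_mul_right Nat.card_pos this).symm
  set π := QuotientGroup.mk' (Cfsg.Inn X)
  have hfo : orderOf (π f) = 2 := orderOf_eq_prime
    (by rw [← map_pow, pow_two]; exact (QuotientGroup.eq_one_iff (f * f)).2 hf)
    fun h => hin ((QuotientGroup.eq_one_iff f).1 h)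
  let S : Sylow 2 (Cfsg.Out X) := Sylow.ofCard (zpowers (π f)) (by
    rw [Nat.card_zpowers, hfo, hout, Nat.factorization_mul (by omega) two_ne_zero, Finsupp.add_apply,
      Nat.prime_two.factorization_self, Nat.factorization_eq_zero_of_not_dvd (by omega), zero_add, pow_one])
  -- the diagonal automorphism and the unipotent element
  let δ : MulAut (Matrix.SpecialLinearGroup (Fin 2) F) := MulEquiv.mk'
    (Function.Involutive.toPerm (fun M => ⟨!![M 0 0, -M 0 1; -M 1 0, M 1 1], by
        have := M.2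
        rw [Matrix.det_fin_two] at this
        rw [Matrix.det_fin_two_of]
        linear_combination this⟩) fun M => by
      ext i j; fin_cases i <;> fin_cases j <;> simp)
    fun M N => by
      apply Subtype.ext
      show (!![(M * N) 0 0, -(M * N) 0 1; -(M * N) 1 0, (M * N) 1 1] : Matrix (Fin 2) (Fin 2) F) =
        !![M 0 0, -M 0 1; -M 1 0, M 1 1] * !![N 0 0, -N 0 1; -N 1 0, N 1 1]
      ext i j; fin_cases i <;> fin_cases j <;> simp [Matrix.mul_apply, Fin.sum_univ_two] <;> ring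
  let δ' : MulAut P := QuotientGroup.congr _ _ δ (by
    ext M
    constructor
    · rintro ⟨N, hN, rfl⟩
      exact Subgroup.mem_center_iff.2 fun g => δ.symm.injective (by
        simpa using Subgroup.mem_center_iff.1 hN (δ.symm g))
    · intro hM
      exact ⟨δ.symm M, Subgroup.mem_center_iff.2 fun g => δ.injective (by
        simpa using Subgroup.mem_center_iff.1 hM (δ g)), δ.apply_symm_apply M⟩)
  obtain ⟨U, hU00, hU01, hU10, hU11⟩ : ∃ U : Matrix.SpecialLinearGroup (Fin 2) F,
      U 0 0 = 1 ∧ U 0 1 = 1 ∧ U 1 0 = 0 ∧ U 1 1 = 1 :=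
    ⟨⟨!![1, 1; 0, 1], by simp [Matrix.det_fin_two_of]⟩, rfl, rfl, rfl, rfl⟩
  have hU3 : U * U * U = 1 := by
    have h3 : (3 : F) = 0 := by exact_mod_cast CharP.cast_eq_zero F 3
    ext i j
    fin_cases i <;> fin_cases j <;> simp [Matrix.mul_apply, Fin.sum_univ_two, hU00, hU01, hU10, hU11]
    linear_combination h3
  set u : P := QuotientGroup.mk U
  have hu1 : u ≠ 1 := fun h => by
    rcases (psl_eq_iff U 1).1 h with rfl | rfl <;> simp at hU01
  have hu : δ' u = u⁻¹ := by
    show QuotientGroup.mk (δ U) = (QuotientGroup.mk U : P)⁻¹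
    rw [← QuotientGroup.mk_inv]
    refine congrArg QuotientGroup.mk (eq_inv_of_mul_eq_one_left ?_)
    apply Subtype.ext
    show (!![U 0 0, -U 0 1; -U 1 0, U 1 1] : Matrix (Fin 2) (Fin 2) F) * U = 1
    ext i j
    fin_cases i <;> fin_cases j <;> simp [Matrix.mul_apply, Fin.sum_univ_two, hU00, hU01, hU10, hU11]
  have hδ2 : δ' * δ' = 1 := by
    refine MulEquiv.ext fun y => ?_
    obtain ⟨M, rfl⟩ := QuotientGroup.mk_surjective y
    show QuotientGroup.mk (δ (δ M)) = (QuotientGroup.mk M : P)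
    exact congrArg QuotientGroup.mk (δ.apply_symm_apply M)
  set d : MulAut X := (MulAut.congr e).symm δ'
  set x : X := e.symm u
  have hd2 : d * d = 1 := by rw [← map_mul, hδ2, map_one]
  have hdx : d x = x⁻¹ := by
    show e.symm (δ' (e x)) = _
    rw [show e x = u from e.apply_symm_apply u, hu, map_inv]
  obtain ⟨T, hT⟩ := (IsPGroup.exists_le_sylow (p := 2) (P := zpowers (π d)) fun z => ⟨1, by
    obtain ⟨z, hz⟩ := z
    obtain ⟨k, rfl⟩ := mem_zpowers_iff.1 hz
    refine Subtype.ext ?_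
    show (π d ^ k) ^ 2 ^ 1 = 1
    rw [pow_one, ← zpow_natCast, ← zpow_mul, mul_comm, zpow_mul, zpow_natCast, ← map_pow, pow_two, hd2,
      map_one, one_zpow]⟩)
  obtain ⟨c, hc'⟩ := MulAction.exists_smul_eq (Cfsg.Out X) T S
  obtain ⟨φ, rfl⟩ := QuotientGroup.mk'_surjective (Cfsg.Inn X) c
  set H := Cfsg.Inn X ⊔ zpowers f
  have hdH : φ * d * φ⁻¹ ∈ H := by
    have h1 : π φ * π d * (π φ)⁻¹ ∈ (S : Subgroup (Cfsg.Out X)) := by
      rw [← hc', Sylow.coe_subgroup_smul]
      exact Subgroup.smul_mem_pointwise_smul _ (MulAut.conj (π φ)) _ (hT (mem_zpowers _))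
    obtain ⟨k, hk⟩ := mem_zpowers_iff.1 (show π φ * π d * (π φ)⁻¹ ∈ zpowers (π f) from h1)
    have h2 : (f ^ k)⁻¹ * (φ * d * φ⁻¹) ∈ Cfsg.Inn X := (QuotientGroup.eq_one_iff _).1 (by
      show π _ = 1
      rw [map_mul, map_inv, map_zpow, hk, map_mul, map_mul, map_inv, inv_mul_cancel])
    have := mul_mem (mem_sup_right (zpow_mem (mem_zpowers f) k) : f ^ k ∈ H) (mem_sup_left h2)
    rwa [mul_inv_cancel_left] at this
  have hxH : φ * MulAut.conj x * φ⁻¹ ∈ H := mem_sup_left ((inferInstance : (Cfsg.Inn X).Normal).conj_mem _ (⟨x, rfl⟩ : MulAut.conj x ∈ Cfsg.Inn X) φ)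
  refine Cfsg.Lib.SmallOffender.involves_perm_three (x := ⟨_, hxH⟩) (a := ⟨_, hdH⟩) ?_ ?_ ?_ ?_
  · refine Subtype.ext ?_
    show (φ * MulAut.conj x * φ⁻¹) ^ 3 = 1
    rw [conj_pow, ← map_pow, ← map_pow, pow_three', ← QuotientGroup.mk_mul, ← QuotientGroup.mk_mul, hU3]
    simp
  · refine Subtype.ext ?_
    show φ * d * φ⁻¹ * (φ * d * φ⁻¹) = 1
    rw [show φ * d * φ⁻¹ * (φ * d * φ⁻¹) = φ * (d * d) * φ⁻¹ by group, hd2, mul_one, mul_inv_cancel]
  · refine Subtype.ext ?_
    show φ * d * φ⁻¹ * (φ * MulAut.conj x * φ⁻¹) * (φ * d * φ⁻¹)⁻¹ = (φ * MulAut.conj x * φ⁻¹)⁻¹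
    have e0 : ∀ (g : MulAut X) (z : X), g * MulAut.conj z * g⁻¹ = MulAut.conj (g z) := fun g z => by
      ext y; simp
    have e1 : d * MulAut.conj x * d⁻¹ = (MulAut.conj x)⁻¹ := by rw [e0, hdx, map_inv]
    calc _ = φ * (d * MulAut.conj x * d⁻¹) * φ⁻¹ := by group
      _ = φ * (MulAut.conj x)⁻¹ * φ⁻¹ := by rw [e1]
      _ = _ := by group
  · intro h
    have h1 : MulAut.conj x = 1 := by
      have := congrArg Subtype.val h
      simpa using this
    have hxc : x ∈ Subgroup.center X := Subgroup.mem_center_iff.2 fun y => by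
      have := DFunLike.congr_fun h1 y
      simp at this
      exact (mul_inv_eq_iff_eq_mul.1 this).symm
    rw [hcen, Subgroup.mem_bot] at hxc
    exact hu1 (by rw [← e.apply_symm_apply u, show e.symm u = 1 from hxc, map_one])

end Cfsg.Lib.SThreeReal
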